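import Cfsg.Agent.BZ.L.TwR.A
import Cfsg.Agent.BZ.L.Tw.Defs

/-!
# BZ : the vector representation of the spin groups (helper65)

`nt2` : the structure `Nt2`; **`hbd_of`**.
-/

set_option autoImplicit false
set_option linter.unusedSectionVars false
set_option maxHeartbeats 400000

namespace Cfsg.Agent.BZ.TwR

open Cfsg Cfsg.Agent.DL Cfsg.Agent.KM Matrix Cfsg.Agent.BZ.Cl Cfsg.Agent.BZ.L Cfsg.Agent.BZ.Tw
open Cfsg.Agent.LangThm Sum Cfsg.Agent.TwoF.DC Cfsg.Agent.TwoF.DC.TC Cfsg.Agent.TwoF.DC.TBD Cfsg.Agent.TwoF.DC.TBD.Cl Cfsg.Agent.KM.BD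
  Cfsg.Agent.KM.Dat

variable {m : ℕ} {Φ : Type} [DecidableEq Φ] (C : CD m Φ)

theorem nu_dot (x : JJ m) (v : Fin m → ℤ) : nu C x ⬝ᵥ v = wo x ⬝ᵥ C.X.dual.E v := by
  rw [C.X.dual.dot_E, dotProduct]
  exact Finset.sum_congr rfl fun i _ => congrArg (· * v i) (dotProduct_comm _ _)

theorem nu_b (i : Fin m) (v : Fin m → ℤ) : nu C (inr (inl i)) ⬝ᵥ v = C.X.dual.E v i := by
  rw [nu_dot]
  exact (single_dotProduct _ _ _).trans (one_mul _)

theorem nu_sw (x : JJ m) : nu C (sw x) = -nu C x := funext fun i => by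
  show _ ⬝ᵥ wo (sw x) = -(_ ⬝ᵥ wo x)
  rw [wo_sw, dotProduct_neg]

theorem nu_inj {x y : JJ m} (h0 : nu C x ≠ 0) (h : nu C x = nu C y) : x = y := by
  have h1 : wo x - wo y = 0 := C.X.cv_span _ fun i => by
    rw [dotProduct_sub]
    exact sub_eq_zero.2 (congrFun h i)
  rcases x with _ | x
  · exact absurd (funext fun _ => dotProduct_zero _) h0
  rcases y with _ | y
  · exact absurd (h.trans (funext fun _ => dotProduct_zero _)) h0
  exact congrArg _ (wv_inj (sub_eq_zero.1 h1))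

theorem wt_eq (b : Φ) : C.X.rc.wt (true, b) = nu C (inr (inl (C.ia b))) + nu C (C.ib b) := funext fun i => by
  rw [RC.wt, C.X.toWt_eq, C.X.E_vec, Euc.rx_true, C.rv_eq, dotProduct_add]
  rfl

theorem sum_wv (a : II m) : ∑ i, wv a i = 1 ∨ ∑ i, wv a i = -1 := by
  rcases a with i | i
  · exact Or.inl (by simp [wv])
  · exact Or.inr (by simp [wv])

theorem even_cv (b : Φ) : Even (∑ i, C.X.cv b i) := by
  rw [C.cv_eq]
  split_ifs with h
  · simp only [Pi.smul_apply, smul_eq_mul, ← Finset.mul_sum]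
    exact even_two_mul _
  · simp only [Pi.add_apply, Finset.sum_add_distrib]
    rcases e : C.ib b with _ | a
    · exact absurd e h
    · have h1 := sum_wv (inl (C.ia b))
      have h2 := sum_wv a
      rw [show wo (inr a : JJ m) = wv a from rfl, Int.even_iff]
      omega

theorem lat (v : Fin m → ℤ) : Even (∑ i, C.X.dual.E v i) := by
  simp only [Euc.E, Finset.sum_apply, Pi.smul_apply, smul_eq_mul]
  rw [Finset.sum_comm]
  refine Finset.even_sum _ fun j _ => ?_
  rw [← Finset.mul_sum]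
  exact (even_cv C _).mul_left _

theorem ev (hm : 3 ≤ m) (h : ∀ w, ∃ v, C.X.dual.E v = (2 : ℤ) • w) (w : Fin m → ℤ) (hw : Even (∑ i, w i)) :
    ∃ v, C.X.dual.E v = w := by
  let o : Fin m := ⟨0, by omega⟩
  have h1 : ∀ i : Fin m, ∃ v, C.X.dual.E v = Pi.single o 1 - Pi.single i 1 := fun i => by
    by_cases e : i = o
    · exact ⟨0, by rw [e, sub_self, Euc.E_zero]⟩
    · obtain ⟨b, k1, k2⟩ := C.ex o (inr (inr i)) (Nat.pos_of_ne_zero fun e' => e (Fin.ext e')) fun e => absurd e inr_ne_inl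
      refine ⟨_, (C.X.dual.E_cf b).trans ((C.cv_eq b).trans ?_)⟩
      rw [k1, k2, if_neg inr_ne_inl, sub_eq_add_neg]
      rfl
  choose v hv using h1
  obtain ⟨s, hs⟩ := hw
  obtain ⟨u, hu⟩ := h (Pi.single o s)
  have h2 : ∀ t : Finset (Fin m), C.X.dual.E (∑ i ∈ t, w i • v i) = ∑ i ∈ t, w i • (Pi.single o 1 - Pi.single i 1 : Fin m → ℤ) := fun t => by
    induction t using Finset.induction_on with
    | empty => exact C.X.dual.E_zero
    | insert i t hi ih => rw [Finset.sum_insert hi, Finset.sum_insert hi, Euc.E_add, Euc.E_smul, ih, hv]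
  refine ⟨u - ∑ i, w i • v i, ?_⟩
  rw [Euc.E_sub, hu, h2]
  funext j
  simp only [Pi.sub_apply, Pi.smul_apply, Finset.sum_apply, smul_eq_mul, mul_sub, Finset.sum_sub_distrib,
    Pi.single_apply, mul_ite, mul_one, mul_zero, Finset.sum_ite_eq, Finset.mem_univ, if_true]
  split_ifs
  · rw [hs]
    ring
  · simp

theorem eq_of_roots (hm : 3 ≤ m) {A : Type} [CommGroup A] (s : JJ m → A) (h1 : ∀ x, s (sw x) = (s x)⁻¹)
    (h2 : ∀ b, s (inr (inl (C.ia b))) * s (C.ib b) = 1) (x y : II m) : s (inr x) = s (inr y) := by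
  let o : Fin m := ⟨0, by omega⟩
  have h3 : ∀ x : II m, ix x ≠ o → s (inr (inl o)) * s (inr x) = 1 := fun x e => by
    obtain ⟨b, k1, k2⟩ := C.ex o (inr x) (Nat.pos_of_ne_zero fun e' => e (Fin.ext e')) fun e => absurd e inr_ne_inl
    rw [← k1, ← k2, h2]
  have h4 : ∀ x : II m, ix x ≠ o → s (inr x) = s (inr (inl o)) := fun x e => by
    have := h3 x.swap (by rwa [ix_swap])
    rw [show (inr x.swap : JJ m) = sw (inr x) from rfl, h1, mul_inv_eq_one] at this
    exact this.symm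
  have h5 : ∀ x : II m, s (inr x) = s (inr (inl o)) := fun x => by
    by_cases e : ix x = o
    · rcases ix_eq (b := inl o) e with rfl | rfl
      · rfl
      · have k : ix (inl ⟨1, by omega⟩ : II m) ≠ o := fun e => absurd (congrArg Fin.val e) one_ne_zero
        have := h3 _ k
        rw [h4 _ k] at this
        exact (h1 (inr (inl o))).trans (inv_eq_of_mul_eq_one_left this)
    · exact h4 x e
  exact (h5 x).trans (h5 y).symm

variable [Fintype Φ]

theorem nt2 (hm : 3 ≤ m) (h : ∀ w, ∃ v, C.X.dual.E v = (2 : ℤ) • w) {p : ℕ} [Fact p.Prime] {k : Type} [Field k] [IsAlgClosed k]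
    [CharP k p] (h2 : (∃ b, C.ib b = inl ()) → (2 : k) ≠ 0) (P : Tws (C.rdat k p h2)) (H : Alg P (rho C k)) {f : ℕ} {e : ℤ}
    (N : Nt H.dat (thG C k) (nu C) f e) : ∃ σ, Nt2 H.dat (thG C k) (nu C) f e (fun i : Fin m => inr (inl i)) σ := by
  obtain ⟨σ, hσ⟩ := N.fr
  refine ⟨σ, N.f0, N.eq, N.ker, N.dg, hσ, ?_, ?_, fun j => ⟨sw j, nu_sw C j⟩, fun _ _ => nu_inj C, fun c hc i j hi hj => ?_,
    fun w hw => ?_, Or.inr fun v => ?_, H.pi1⟩
  · choose v hv using h
    refine ⟨Matrix.of fun r i : Fin m => v (Pi.single i 1) r, Matrix.ext fun i i' : Fin m => ?_⟩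
    exact (nu_b C i (v (Pi.single i' 1))).trans ((congrFun (hv _) i).trans (congrArg ((2 : ℤ) * ·) (Pi.single_apply i' 1 i)))
  · rintro (_ | i | i)
    · exact Or.inl (funext fun _ => dotProduct_zero _)
    · exact Or.inr ⟨i, Or.inl rfl⟩
    · exact Or.inr ⟨i, Or.inr (funext fun _ => dotProduct_neg _ _)⟩
  · have h1 := Bz.Zc_of_center H.qs (z := H.dat.τ c) trivial fun g _ => hc g trivial
    rcases i with _ | i
    · exact absurd (funext fun _ => dotProduct_zero _) hi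
    rcases j with _ | j
    · exact absurd (funext fun _ => dotProduct_zero _) hj
    refine eq_of_roots C hm (fun x => chr (nu C x) c) (fun x => ?_) (fun b => ?_) i j
    · exact (congrArg (chr · c) (nu_sw C x)).trans (chr_neg _ _)
    · have h3 := h1.2 _ (H.rt_iff.2 ⟨(true, b), rfl⟩)
      have h4 := Units.ext (((H.dat.χ_τ _ c).symm.trans h3).trans Units.val_one.symm)
      exact (chr_add _ _ _).symm.trans ((congrArg (chr · c) ((H.dat_wt _).trans (wt_eq C b)).symm).trans h4)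
  · obtain ⟨v, hv⟩ := ev C hm h w hw
    exact ⟨v, fun i => (nu_b C i v).trans (congrFun hv i)⟩
  · exact (Finset.sum_congr rfl fun i _ => nu_b C i v) ▸ lat C v

theorem hbd_of (hD : Tw.BoxDat) : HBD := fun C hm h _ _ _ _ _ _ h2 P H hp N =>
  let ⟨_, hσ⟩ := nt2 C hm h h2 P H N
  hD _ _ _ _ _ _ _ hσ hp H.qs

/-- **the rows of the orthogonal groups at the prime two** -/
theorem rows_of (hD : Tw.BoxDat) (h73 : ∀ (F : Type) [Field F] [Fintype F], Fintype.card F = 3 → RowP 2 (POmega F (quadFormOdd 3 F))) :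
    For RowP (Ev COdd) ∧ For RowP (Ev CPlus) ∧ For RowP (Ev CMinus) :=
  ⟨odd_of (hbd_of hD) h73, plus_of (hbd_of hD), minus_of (hbd_of hD)⟩

end Cfsg.Agent.BZ.TwR
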