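import Cfsg.Agent.BZ.L.Cl.Rows
import Cfsg.Agent.BZ.L.Bzr
import Cfsg.Agent.BZ.E2.Defs

/-!
# BZ : the rows of the symplectic and orthogonal groups at the prime two, from the data (helper65)

`HBD`, `HC` : the theorem for the data of the spin groups and of the symplectic groups; `odd_of`, `plus_of`, `minus_of`, `psp_of`.
-/

set_option autoImplicit false
set_option linter.unusedSectionVars false
set_option maxHeartbeats 400000

namespace Cfsg.Agent.BZ.TwR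

open Cfsg Cfsg.Agent.DL Cfsg.Agent.KM Matrix Cfsg.Agent.BZ.Cl Cfsg.Agent.BZ.L

section BD

open Cfsg.Agent.LangThm Sum Cfsg.Agent.TwoF.DC Cfsg.Agent.TwoF.DC.TC Cfsg.Agent.TwoF.DC.TBD Cfsg.Agent.TwoF.DC.TBD.Cl Cfsg.Agent.KM.BD
  Cfsg.Agent.KM.Dat

/-- the theorem for the spin groups -/
def HBD : Prop := ∀ {m : ℕ} {Φ : Type} [Fintype Φ] [DecidableEq Φ] (C : CD m Φ), 3 ≤ m → (∀ w, ∃ v, C.X.dual.E v = (2 : ℤ) • w) →
  ∀ {p : ℕ} [Fact p.Prime] {k : Type} [Field k] [IsAlgClosed k] [CharP k p] (h2 : (∃ b, C.ib b = inl ()) → (2 : k) ≠ 0)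
    (P : Tws (C.rdat k p h2)) (H : Alg P (rho C k)), p ≠ 2 → Nt H.dat (thG C k) (nu C) P.f ((p ^ P.f : ℕ) : ℤ) → E2.Bz2 H.dat

variable (hD : HBD)
include hD

theorem row_cd {m : ℕ} {Φ : Type} [Fintype Φ] [DecidableEq Φ] (C : CD m Φ) (hm : 3 ≤ m)
    (h : ∀ w, ∃ v, C.X.dual.E v = (2 : ℤ) • w) {p : ℕ} [Fact p.Prime] {k : Type} [Field k] [IsAlgClosed k] [CharP k p]
    (lf : ∀ a : k, ∃ m, 0 < m ∧ a ^ p ^ m = a) (h2 : (∃ b, C.ib b = inl ()) → (2 : k) ≠ 0)
    (P : Tws (C.rdat k p h2)) (hP : P.Fr = C.fr (frobenius k p)) (hF : (C.rdat k p h2).Fa)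
    (hσ : ∃ σ : Equiv.Perm (JJ m), ∀ x j, nu C x (P.sι j) = nu C (σ x) j) {S : Type} [Group S]
    (hS : IsSimpleGroup S) (hn : ¬ IsMulCommutative S) (hπ : PiP P S) {A : Type} [CommGroup A]
    (hA : HasSchurMultiplier S A) (hp : p ≠ 2) (h4 : Nat.card A ∣ 4) (hd : Nat.card A ≤ Nat.card P.Zc) : RowP 2 S := by
  obtain ⟨π, k1, k2⟩ := hπ
  have H : Alg P (rho C k) := ⟨hF, lf, rho_inj C k, fun g => by rw [hP]; exact rho_fr C p g, rho_poly C p h2, 1, mu C,
    fun c => by rw [inv_one, one_mul, mul_one, rho_diag]⟩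
  obtain ⟨s, -⟩ := H.sc hS hn k1 k2 hA (d := Nat.card A) (a := 0) (by simp) (Nat.pos_of_dvd_of_pos h4 four_pos) hd
  have : Fact (Nat.Prime 2) := ⟨Nat.prime_two⟩
  refine boxScz H.dat S s 2 hp.symm (hD C hm h h2 P H hp ⟨P.f_pos, Or.inl rfl,
    fun g _ hg y _ => Subgroup.mem_center_iff.1 (thG_ker C hg) y, thG_diag C p h2, ?_, nu_bas C h⟩) A hA
    (no_cov (not_dvd_four Fact.out hp h4))
  obtain ⟨σ, hσ⟩ := hσ
  refine ⟨σ, fun x => funext fun j : Fin m => ?_⟩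
  show ∑ i, nu C x i * (Pi.single (P.sι.symm i) ((p ^ P.f : ℕ) : ℤ) : Fin m → ℤ) j = ((p ^ P.f : ℕ) : ℤ) * nu C (σ x) j
  rw [Finset.sum_eq_single (P.sι j) (fun i _ hi => by
    rw [Pi.single_eq_of_ne (fun e => hi (by rw [e, Equiv.apply_symm_apply])), mul_zero]) (by simp), Equiv.symm_apply_apply,
    Pi.single_eq_same, hσ, mul_comm]

theorem odd_of (h73 : ∀ (F : Type) [Field F] [Fintype F], Fintype.card F = 3 → RowP 2 (POmega F (quadFormOdd 3 F))) :
    For RowP (Ev COdd) := by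
  rintro l hl S _ _ _ hn ⟨rfl, F, _, _, m, hlF, hm, hodd, ⟨e⟩⟩
  obtain ⟨p, hc⟩ := CharP.exists F
  obtain ⟨f, hp, hq⟩ := FiniteField.card F p
  have : Fact p.Prime := ⟨hp⟩
  have := Finite.of_equiv _ e.toEquiv
  refine RowX.of_equiv (X := XP) e ?_
  have hp2 : p ≠ 2 := (ne_char (p := p) hlF).symm
  by_cases h5 : m = 3 ∧ Fintype.card F = 3
  · obtain ⟨rfl, h5⟩ := h5
    exact h73 F h5
  let k := AlgebraicClosure F
  have h2 : (2 : k) ≠ 0 := fun e =>
    hp2 ((Nat.prime_dvd_prime_iff_eq hp Nat.prime_two).1 ((CharP.cast_eq_zero_iff k p 2).1 (by exact_mod_cast e)))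
  let D := (cB m).rdat k p fun _ => h2
  let P := tw0 D f f.pos ((cB m).fr (frobenius k p)) ((cB m).fr_z p _ _) ((cB m).fr_y p _ _)
  have hF : D.Fa := TE.fa_of_faith (boxB p hp2 m hm k _ D rfl).faith ⟨0, by omega⟩
  have hv : Vec D (fun b => b.1.1) ibB (cB m).th := by
    rw [show (fun b : PR m => b.1.1) = fun b => Sum.inl ((cB m).ia b) from funext fun b => (inl_ix b.lt).symm]
    exact (cB m).vec p _
  have hπ := (boxPi p m k _ F (algebraMap F k) _).1 hp2 hm D rfl hF hv P rfl hq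
  have hA := S2094.result rfl hodd m hm h5
  refine row_cd hD (cB m) hm (two_B m) (lf_closure F p) _ P rfl hF ⟨1, fun _ _ => rfl⟩ e.symm.isSimpleGroup (noncomm_of e hn) hπ hA hp2
    (by rw [card_cyc]; decide) ?_
  rw [card_cyc]
  refine TE.le_card_Zc P (m := 2) Nat.prime_two (Pi.single ⟨m - 1, by omega⟩ 1) ⟨m - 1, by omega⟩ (by simp) (fun i => ?_)
    fun _ => ⟨fun e => hp2 ((Nat.prime_dvd_prime_iff_eq hp Nat.prime_two).1 e), fun i => ?_⟩
  · rw [Finset.sum_eq_single ⟨m - 1, by omega⟩ (fun j _ hj => by simp [hj]) (by simp)]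
    refine Dvd.dvd.mul_left ?_ _
    show _ ∣ rv (zc _) ⬝ᵥ _
    rw [rv_zc_dot, dif_neg (by simp only; omega)]
    exact dvd_mul_right _ _
  · rw [show P.sι i = i from rfl]
    conv_lhs => rw [← mul_one (Pi.single (M := fun _ => ℕ) _ _ _)]
    exact Nat.ModEq.mul_left _ (Nat.odd_iff.1 (hq ▸ hodd)).symm

theorem plus_of : For RowP (Ev CPlus) := by
  rintro l hl S _ _ _ hn ⟨rfl, F, _, _, m, hlF, hm, ⟨e⟩⟩
  obtain ⟨p, hc⟩ := CharP.exists F
  obtain ⟨f, hp, hq⟩ := FiniteField.card F p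
  have : Fact p.Prime := ⟨hp⟩
  have := Finite.of_equiv _ e.toEquiv
  refine RowX.of_equiv (X := XP) e ?_
  have h2 : p ≠ 2 := (ne_char (p := p) hlF).symm
  have : Fact (2 ≤ m) := ⟨by omega⟩
  let k := AlgebraicClosure F
  let P := tD m k p f f.pos 1
  have hF : (dD m k p).Fa := TE.fa_of_faith (faithD (by omega) p k) (fst m)
  have hπ := ((boxPi p m k _ F (algebraMap F k) _).2 hm _ rfl hF vec_D P hq).1 rfl
  have h5 : ¬ (m = 4 ∧ Fintype.card F = 2) := fun h5 =>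
    h2 ((Nat.prime_dvd_prime_iff_eq hp Nat.prime_two).1 (h5.2 ▸ hq ▸ dvd_pow_self p f.pos.ne'))
  obtain ⟨A, _, hA, k1, k2, k3⟩ := mult_plus hp (hq ▸ dvd_pow_self p f.pos.ne') hm h5
  refine row_cd hD (cD m) (by omega) (two_D m) (lf_closure F p) _ P rfl hF ⟨1, fun _ _ => rfl⟩ e.symm.isSimpleGroup (noncomm_of e hn) hπ
    hA h2 k2 ?_
  obtain ⟨z2, z4⟩ := Nm.card_Zc (D := dD m k p) rfl P h2 (by omega) (Or.inl rfl)
  by_cases h7 : m % 2 = 1 ∧ Fintype.card F % 4 = 3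
  · exact (Nat.le_of_dvd two_pos (k3 h7)).trans z2
  · exact (Nat.le_of_dvd four_pos k2).trans (z4 (Or.inl ⟨rfl, by rw [hq] at h7; exact h7⟩))

theorem minus_of : For RowP (Ev CMinus) := by
  rintro l hl S _ _ _ hn ⟨rfl, F, _, _, m, a, b, hlF, hm, hab, ⟨e⟩⟩
  obtain ⟨p, hc⟩ := CharP.exists F
  obtain ⟨f, hp, hq⟩ := FiniteField.card F p
  have : Fact p.Prime := ⟨hp⟩
  refine RowX.of_equiv (X := XP) e ?_
  have h2 : p ≠ 2 := (ne_char (p := p) hlF).symm
  have : Fact (2 ≤ m) := ⟨by omega⟩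
  let k := AlgebraicClosure F
  let P := tD m k p f f.pos ⟨gN m, Subgroup.mem_zpowers _⟩
  have hF : (dD m k p).Fa := TE.fa_of_faith (faithD (by omega) p k) (fst m)
  have hπ := ((boxPi p m k _ F (algebraMap F k) _).2 hm _ rfl hF vec_D P hq).2 rfl a b hab
  have hA := S2099.result rfl m hm a b hab
  refine row_cd hD (cD m) (by omega) (two_D m) (lf_closure F p) _ P rfl hF
    ⟨Equiv.sumCongr (Equiv.refl _) (Function.Involutive.toPerm gI gI_gI), fun x j => ?_⟩ e.symm.isSimpleGroup (noncomm_of e hn) hπ hA h2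
    (by rw [card_cyc]; exact Nat.gcd_dvd_left _ _) ?_
  · show rd (zd (gN m j)) ⬝ᵥ _ = rd (zd j) ⬝ᵥ _
    rw [← gP_zd, rd_gP, gV_dot]
    rcases x with _ | x
    · exact congrArg _ (funext fun i => by simp [gV, wo])
    · exact congrArg _ (gV_wv x)
  obtain ⟨z2, z4⟩ := Nm.card_Zc (D := dD m k p) rfl P h2 (by omega) (Or.inr rfl)
  rw [card_cyc, hq]
  by_cases h7 : m % 2 = 1 ∧ p ^ (f : ℕ) % 4 = 3
  · exact (Nat.le_of_dvd four_pos (Nat.gcd_dvd_left _ _)).trans (z4 (Or.inr ⟨rfl, h7⟩))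
  · have h3 := Nm.pow_mod (m := m) (Nat.odd_iff.1 (hp.odd_of_ne_two h2).pow : p ^ (f : ℕ) % 2 = 1)
    rw [if_neg h7] at h3
    exact (Nat.le_of_dvd two_pos (Nm.gcd_dvd_two (by omega))).trans z2

end BD

section C

open Cfsg.Agent.KZ.Dat Cfsg.Agent.Nodes.TypeC Cfsg.Agent.ODD.C2 Cfsg.Agent.KM.ScC

/-- the theorem for the symplectic groups -/
def HC : Prop := ∀ {n : ℕ} {k : Type} [Field k] {p : ℕ} [Fact p.Prime] [CharP k p] [IsAlgClosed k]
  (hk : ∀ a : k, ∃ j, 0 < j ∧ a ^ p ^ j = a) {e : ℕ} (he : 0 < e), 2 ≤ n → p ≠ 2 → E2.Bz2 (datC n hk he)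

theorem psp_of (hD : HC) : For RowP (Ev CPsp) := by
  rintro l hl S _ _ _ hn ⟨rfl, F, _, _, m, hF, hm, hm2, ⟨e⟩⟩
  refine RowX.of_equiv (X := XP) e ?_
  obtain ⟨p, hp⟩ := CharP.exists F
  have hpp : Fact p.Prime := ⟨CharP.char_is_prime F p⟩
  obtain ⟨k, _, _, _, hk, e', he, f, hq⟩ := hasC p F
  have hlp : 2 ≠ p := fun h => hF (h ▸ CharP.cast_eq_zero F p)
  have := (datC m hk he).amb.finite_GF (GC m k)
  let π : GF (FC m k p e') (GC m k) →* PSp m F := (QuotientGroup.mk' _).comp (eqvC f hq).symm.toMonoidHom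
  have h0 : Function.Surjective π := (QuotientGroup.mk'_surjective _).comp (eqvC f hq).symm.surjective
  have h1 : π.ker = (Subgroup.center _).map (eqvC f hq).toMonoidHom := by
    rw [← MonoidHom.comap_ker, QuotientGroup.ker_mk', Subgroup.map_equiv_eq_comap_symm']
  have h3 : Nat.card π.ker = Nat.gcd 2 (Fintype.card F - 1) := by
    rw [h1, Subgroup.card_map_of_injective (eqvC f hq).injective, LieClassical.SympCenter.card_center (by omega)]
  have h4 : ¬ p ∣ Nat.card π.ker := by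
    rw [h3]
    exact fun h => hlp ((Nat.prime_dvd_prime_iff_eq hpp.out Nat.prime_two).1 (h.trans (Nat.gcd_dvd_left _ _))).symm
  have h : ¬ (m = 3 ∧ Fintype.card F = 2) := fun h => by
    obtain ⟨g, -, hg⟩ := FiniteField.card F p
    exact hlp ((Nat.prime_dvd_prime_iff_eq hpp.out Nat.prime_two).1 (h.2 ▸ hg ▸ dvd_pow_self p g.pos.ne')).symm
  have hA := S2092.result rfl m hm hm2 h
  have h5 : π.ker ≤ Subgroup.center _ := by
    rw [h1]
    rintro _ ⟨z, hz, rfl⟩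
    refine Subgroup.mem_center_iff.2 fun g => ?_
    obtain ⟨g, rfl⟩ := (eqvC f hq).surjective g
    rw [MulEquiv.coe_toMonoidHom, ← map_mul, ← map_mul, Subgroup.mem_center_iff.1 hz]
  have h6 : commutator (GF (FC m k p e') (GC m k)) = ⊤ := by
    have h4 := S0269.result (F := F) m (by omega)
    rw [commutator_def, ← Subgroup.map_top_of_surjective (eqvC f hq).toMonoidHom (eqvC f hq).surjective, ← Subgroup.map_commutator,
      ← commutator_def, h4]
  have h7 : Nat.card (Multiplicative (ZMod (Nat.gcd 2 (Fintype.card F - 1)))) = Nat.card π.ker := by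
    rw [h3, Nat.card_congr Multiplicative.toAdd, Nat.card_zmod]
  have h8 : π.ker = Subgroup.center _ := le_antisymm h5 fun z hz => by
    rw [h1]
    refine ⟨(eqvC f hq).symm z, Subgroup.mem_center_iff.2 fun g => (eqvC f hq).injective ?_, (eqvC f hq).apply_symm_apply z⟩
    rw [map_mul, map_mul, MulEquiv.apply_symm_apply, Subgroup.mem_center_iff.1 hz]
  refine boxScz (datC m hk he) _ ⟨datC_qs hk he, ntC he, pi1C hk he, π, h0, h8, h6, fun K _ _ hK hp e => ?_⟩ 2 hlp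
    (hD hk he hm hlp.symm) _ hA (no_cov (h7 ▸ h4))
  have h9 : (e.toMonoidHom.comp (QuotientGroup.mk' (Subgroup.center K))).ker = Subgroup.center K := by
    ext x
    rw [MonoidHom.mem_ker, MonoidHom.comp_apply, MulEquiv.coe_toMonoidHom, map_eq_one_iff _ e.injective,
      QuotientGroup.mk'_apply, QuotientGroup.eq_one_iff]
  exact cover_of_mult (l := p) (by
      rw [commutator_def, ← MonoidHom.range_eq_top.2 h0, MonoidHom.range_eq_map, ← Subgroup.map_commutator, ← commutator_def, h6]) hA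
    (H95.StemCover.isStem h6 h0 h5)
    (H95.StemCover.isStem (π := e.toMonoidHom.comp (QuotientGroup.mk' (Subgroup.center K))) hK.1.commutator_eq_top
      (e.surjective.comp (QuotientGroup.mk'_surjective _)) h9.le) h4 (h9.symm ▸ hp) (a := 0) (by rw [h7, pow_zero, mul_one])

end C

end Cfsg.Agent.BZ.TwR
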